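import Groth.Agent.UnipSubtorus.Double
import Groth.Agent.SpecialGLLib.SolvSpecial
import Groth.Agent.TorusField.Bridge
import Groth.Agent.MaxTorus.Basic
import Groth.Agent.HopfGr.Cartier
import Groth.Agent.HopfGr.SmoothQuot
import Groth.Agent.S7985

/-!
# A connected affine group without subtori is unipotent (characteristic zero)
-/

set_option autoImplicit false
set_option maxHeartbeats 1000000
set_option linter.style.haveILetI false
set_option backward.isDefEq.respectTransparency false
set_option backward.isDefEq.respectTransparency.types false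

universe u

open CategoryTheory CategoryTheory.Limits MonoidalCategory CartesianMonoidalCategory MonObj AlgebraicGeometry
open TensorProduct WithConv

noncomputable section

namespace Groth.Agent.UnipSubtorus

open Groth.Agent.Comodule

attribute [-instance] CategoryTheory.Hom.commGroup
attribute [local instance 100] LieRing.ofAssociativeRing

section Hopf

variable {k : Type u} [Field k] {A : Type u} [CommRing A] [HopfAlgebra k A]

theorem conv_dlin_mul (D E : LieHopf.Lie k A) (a c : A) :
    LieHopf.conv (LieHopf.dlin D) (LieHopf.dlin E) (a * c) =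
      Bialgebra.counitAlgHom k A a * LieHopf.conv (LieHopf.dlin D) (LieHopf.dlin E) c +
      Bialgebra.counitAlgHom k A c * LieHopf.conv (LieHopf.dlin D) (LieHopf.dlin E) a +
      LieHopf.dlin D a * LieHopf.dlin E c + LieHopf.dlin D c * LieHopf.dlin E a := by
  let ε := Bialgebra.counitAlgHom k A
  let Φ : A ⊗[k] A →ₗ[k] k := LinearMap.mul' k k ∘ₗ TensorProduct.map (LieHopf.dlin D) (LieHopf.dlin E)
  let Z : A ⊗[k] A →ₗ[k] k := LinearMap.mul' k k ∘ₗ TensorProduct.map ε.toLinearMap ε.toLinearMap
  let F : A ⊗[k] A →ₗ[k] k := LinearMap.mul' k k ∘ₗ TensorProduct.map (LieHopf.dlin D) ε.toLinearMap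
  let G : A ⊗[k] A →ₗ[k] k := LinearMap.mul' k k ∘ₗ TensorProduct.map ε.toLinearMap (LieHopf.dlin E)
  have key : ∀ x y : A ⊗[k] A, Φ (x * y) = Z x * Φ y + Z y * Φ x + F x * G y + F y * G x := by
    intro x y
    induction x with
    | zero => simp
    | add p q hp hq => rw [add_mul]; simp only [map_add, hp, hq]; ring
    | tmul a₁ a₂ =>
      induction y with
      | zero => simp
      | add p q hp hq => rw [mul_add]; simp only [map_add, hp, hq]; ring
      | tmul c₁ c₂ =>
        simp [Φ, Z, F, G, ε, LieHopf.dlin_mul]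
        ring
  have hZ : ∀ z : A, Z (Coalgebra.comul (R := k) z) = ε z := fun z => by
    have h : ∀ y : A ⊗[k] A, Z y = ε (TensorProduct.lid k A ((Coalgebra.counit (R := k)).rTensor A y)) := fun y => by
      induction y with
      | zero => simp
      | add p q hp hq => simp only [map_add, hp, hq]
      | tmul p q => simp [Z, ε]
    rw [h, Coalgebra.rTensor_counit_comul]; simp
  have hF : ∀ z : A, F (Coalgebra.comul (R := k) z) = LieHopf.dlin D z := fun z => by
    have h : ∀ y : A ⊗[k] A, F y = LieHopf.dlin D (TensorProduct.rid k A ((Coalgebra.counit (R := k)).lTensor A y)) :=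
      fun y => by
      induction y with
      | zero => simp
      | add p q hp hq => simp only [map_add, hp, hq]
      | tmul p q => simp [F, ε, mul_comm]
    rw [h, Coalgebra.lTensor_counit_comul]; simp
  have hG : ∀ z : A, G (Coalgebra.comul (R := k) z) = LieHopf.dlin E z := fun z => by
    have h : ∀ y : A ⊗[k] A, G y = LieHopf.dlin E (TensorProduct.lid k A ((Coalgebra.counit (R := k)).rTensor A y)) :=
      fun y => by
      induction y with
      | zero => simp
      | add p q hp hq => simp only [map_add, hp, hq]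
      | tmul p q => simp [G, ε]
    rw [h, Coalgebra.rTensor_counit_comul]; simp
  show Φ (Coalgebra.comul (R := k) (a * c)) = _
  rw [Bialgebra.comul_mul, key, hZ, hZ, hF, hF, hG, hG]
  rfl

/-- The bracket of two derivations. -/
def bracketDer (D E : LieHopf.Lie k A) : LieHopf.Lie k A :=
  Derivation.mk' ((LieHopf.conv (LieHopf.dlin D) (LieHopf.dlin E) - LieHopf.conv (LieHopf.dlin E) (LieHopf.dlin D) :
      A →ₗ[k] k) : A →ₗ[k] LieHopf.K k A) fun a c => by
    rw [LieHopf.smul_def, LieHopf.smul_def]
    change (LieHopf.conv (LieHopf.dlin D) (LieHopf.dlin E) - LieHopf.conv (LieHopf.dlin E) (LieHopf.dlin D)) (a * c) =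
      Bialgebra.counitAlgHom k A a *
          (LieHopf.conv (LieHopf.dlin D) (LieHopf.dlin E) - LieHopf.conv (LieHopf.dlin E) (LieHopf.dlin D)) c +
        Bialgebra.counitAlgHom k A c *
          (LieHopf.conv (LieHopf.dlin D) (LieHopf.dlin E) - LieHopf.conv (LieHopf.dlin E) (LieHopf.dlin D)) a
    simp only [LinearMap.sub_apply, conv_dlin_mul]
    ring

theorem toConv_bracketDer (D E : LieHopf.Lie k A) :
    toConv (LieHopf.dlin (bracketDer D E)) =
      toConv (LieHopf.dlin D) * toConv (LieHopf.dlin E) - toConv (LieHopf.dlin E) * toConv (LieHopf.dlin D) := rfl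

variable [IsAlgClosed k] [CharZero k] [Algebra.FiniteType k A]
variable {W : Type u} [AddCommGroup W] [Module k W] [HopfRep.Comod k A W] [Module.Finite k W]

theorem exists_pow_smul_comod (hA : NoGm k A) (ξ : LieHopf.Lie k A) :
    ∃ n : ℕ, ∀ w : W, (toConv (LieHopf.dlin ξ)) ^ n • w = 0 := by
  classical
  let b := Module.finBasis k W
  choose N hN using fun p : Fin (Module.finrank k W) × Fin (Module.finrank k W) =>
    exists_pow_smul_eq_zero hA ξ (coefMap (C := A) (b.coord p.1) (b p.2))
  refine ⟨Finset.univ.sup N, fun w => ?_⟩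
  have hb : ∀ j, (toConv (LieHopf.dlin ξ)) ^ Finset.univ.sup N • b j = 0 := fun j =>
    eq_zero_of_coefMap (C := A) fun φ => by
      rw [show φ = ∑ i, φ (b i) • b.coord i from (b.sum_dual_apply_smul_coord φ).symm]
      rw [map_smul]
      have h : ∀ i, (toConv (LieHopf.dlin ξ)) ^ Finset.univ.sup N • coefMap (C := A) (b.coord i) (b j) = 0 := fun i => by
        obtain ⟨m, hm⟩ := Nat.le.dest (Finset.le_sup (f := N) (Finset.mem_univ (i, j)))
        rw [← hm, add_comm, pow_add, mul_smul, hN (i, j), smul_zero]
      have hlin : coefMap (C := A) (∑ i, φ (b i) • b.coord i) (b j) =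
          ∑ i, φ (b i) • coefMap (C := A) (b.coord i) (b j) := by
        simp only [coefMap_apply, lcon, LinearMap.comp_apply, LinearMap.rTensor]
        rw [coact_basis]
        simp [Finsupp.single_apply]
      rw [hlin, Finset.smul_sum]
      exact Finset.sum_eq_zero fun i _ => by rw [smul_comm, h, smul_zero]
  rw [← b.sum_repr w, Finset.smul_sum]
  exact Finset.sum_eq_zero fun j _ => by rw [smul_comm, hb, smul_zero]

variable (k A W) in
/-- The operators of the Lie algebra on a representation. -/
def lieOps : LieSubalgebra k (Module.End k W) where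
  carrier := Set.range fun ξ : LieHopf.Lie k A => dact (C := A) (V := W) (LieHopf.dlin ξ)
  zero_mem' := ⟨0, LinearMap.ext fun w => by
    have e : LieHopf.dlin (0 : LieHopf.Lie k A) = 0 := rfl
    simp [e, dact, rcon]⟩
  add_mem' := by
    rintro _ _ ⟨ξ, rfl⟩ ⟨θ, rfl⟩
    exact ⟨ξ + θ, LinearMap.ext fun w => dact_add (LieHopf.dlin ξ) (LieHopf.dlin θ) w⟩
  smul_mem' := by
    rintro c _ ⟨ξ, rfl⟩
    exact ⟨c • ξ, LinearMap.ext fun w => dact_smul c (LieHopf.dlin ξ) w⟩
  lie_mem' := by
    rintro _ _ ⟨ξ, rfl⟩ ⟨θ, rfl⟩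
    refine ⟨bracketDer ξ θ, LinearMap.ext fun w => ?_⟩
    show toConv (LieHopf.dlin (bracketDer ξ θ)) • w = _
    rw [toConv_bracketDer, sub_smul, mul_smul, mul_smul]
    rfl

theorem exists_lie_fixed (hA : NoGm k A) [Nontrivial W] :
    ∃ w : W, w ≠ 0 ∧ ∀ ξ : LieHopf.Lie k A, dact (C := A) (LieHopf.dlin ξ) w = 0 := by
  haveI : LieModule.IsNilpotent (lieOps k A W) W := by
    refine (LieModule.isNilpotent_iff_forall' (R := k) (L := lieOps k A W) (M := W)).mpr ?_
    rintro ⟨_, ξ, rfl⟩
    obtain ⟨n, hn⟩ := exists_pow_smul_comod (W := W) hA ξ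
    refine ⟨n, LinearMap.ext fun w => ?_⟩
    have h : ∀ m : ℕ, ((dact (C := A) (V := W) (LieHopf.dlin ξ)) ^ m : Module.End k W) w =
        (toConv (LieHopf.dlin ξ)) ^ m • w := fun m => by
      induction m with
      | zero => rw [pow_zero, pow_zero, one_smul]; rfl
      | succ m ih => rw [pow_succ', pow_succ', mul_smul, Module.End.mul_apply, ih]; rfl
    exact (h n).trans (hn w)
  haveI := LieModule.nontrivial_max_triv_of_isNilpotent k (lieOps k A W) W
  obtain ⟨⟨w, hw⟩, hw0⟩ := exists_ne (0 : LieModule.maxTrivSubmodule k (lieOps k A W) W)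
  exact ⟨w, fun h => hw0 (Subtype.ext h),
    fun ξ => (LieModule.mem_maxTrivSubmodule _ _ _ w).mp hw ⟨_, ξ, rfl⟩⟩

omit [IsAlgClosed k] in
theorem coact_eq_of_lie [IsAlgClosed k] (hconn : ∀ e : A, IsIdempotentElem e → e = 0 ∨ e = 1) (w : W)
    (hw : ∀ ξ : LieHopf.Lie k A, dact (C := A) (LieHopf.dlin ξ) w = 0) :
    HopfRep.Comod.coact (k := k) (A := A) w = w ⊗ₜ[k] (1 : A) := by
  classical
  let b := Module.finBasis k W
  let M : Matrix (Fin (Module.finrank k W)) (Fin (Module.finrank k W)) A := coMat b
  let c : Fin (Module.finrank k W) → k := fun i => b.repr w i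
  let a : Fin (Module.finrank k W) → A := fun i => ∑ j, M i j * algebraMap k A (c j)
  let I : Ideal A := Ideal.span (Set.range fun i => a i - algebraMap k A (c i))
  have hco : HopfRep.Comod.coact (k := k) (A := A) w = ∑ l, b l ⊗ₜ[k] a l := by
    conv_lhs => rw [← b.sum_repr w, map_sum]
    simp only [map_smul, coact_basis, Finset.smul_sum]
    rw [Finset.sum_comm]
    refine Finset.sum_congr rfl fun l _ => ?_
    rw [show a l = ∑ j, M l j * algebraMap k A (c j) from rfl, TensorProduct.tmul_sum]
    exact Finset.sum_congr rfl fun j _ => by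
      rw [← Algebra.commutes, ← Algebra.smul_def, TensorProduct.tmul_smul]
  have hεa : ∀ i, Bialgebra.counitAlgHom k A (a i) = c i := fun i => by
    simp [a, M, counit_coMat]
  have hI : I.IsHopfIdeal k := by
    let q : A →ₐ[k] A ⧸ I := Ideal.Quotient.mkₐ k I
    have hq : ∀ i, q (a i) = algebraMap k (A ⧸ I) (c i) := fun i => by
      rw [← q.commutes, ← sub_eq_zero, ← map_sub]
      exact Ideal.Quotient.eq_zero_iff_mem.mpr (Ideal.subset_span ⟨i, rfl⟩)
    refine @Ideal.IsHopfIdeal.mk k A _ _ _ I ⟨fun x hx => ?_, fun x hx => ?_⟩ fun x hx => ?_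
    · have h : I ≤ RingHom.ker (Bialgebra.counitAlgHom k A) := Ideal.span_le.mpr <| by
        rintro _ ⟨i, rfl⟩
        show Bialgebra.counitAlgHom k A _ = 0
        rw [map_sub, hεa, AlgHom.commutes, sub_eq_zero]
        rfl
      exact h hx
    · have hmk : (Submodule.restrictScalars k I).mkQ = q.toLinearMap := rfl
      rw [hmk]
      have h : I ≤ RingHom.ker ((Algebra.TensorProduct.map q q).comp (Bialgebra.comulAlgHom k A)) :=
        Ideal.span_le.mpr <| by
        rintro _ ⟨i, rfl⟩
        show ((Algebra.TensorProduct.map q q).comp (Bialgebra.comulAlgHom k A)) _ = 0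
        rw [map_sub, AlgHom.commutes, sub_eq_zero]
        have e : ∀ j, ((Algebra.TensorProduct.map q q).comp (Bialgebra.comulAlgHom k A)) (M i j) =
            ∑ l, q (M i l) ⊗ₜ[k] q (M l j) := fun j => by
          show Algebra.TensorProduct.map q q (Coalgebra.comul (R := k) (coMat b i j)) = _
          rw [comul_coMat, map_sum]
          exact Finset.sum_congr rfl fun l _ => rfl
        calc ((Algebra.TensorProduct.map q q).comp (Bialgebra.comulAlgHom k A)) (a i)
            = ∑ j, ∑ l, c j • (q (M i l) ⊗ₜ[k] q (M l j)) := by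
              simp only [a, map_sum, map_mul, AlgHom.commutes, e]
              exact Finset.sum_congr rfl fun j _ => by rw [← Algebra.commutes, ← Algebra.smul_def, Finset.smul_sum]
          _ = ∑ l, q (M i l) ⊗ₜ[k] q (a l) := by
              rw [Finset.sum_comm]
              refine Finset.sum_congr rfl fun l _ => ?_
              simp only [a, map_sum, map_mul, AlgHom.commutes, TensorProduct.tmul_sum]
              exact Finset.sum_congr rfl fun j _ => by
                rw [← Algebra.commutes, ← Algebra.smul_def, TensorProduct.tmul_smul]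
          _ = q (a i) ⊗ₜ[k] 1 := by
              simp only [hq, Algebra.algebraMap_eq_smul_one, TensorProduct.tmul_smul]
              simp only [← TensorProduct.smul_tmul', ← Algebra.algebraMap_eq_smul_one, ← hq]
              simp only [a, map_sum, map_mul, AlgHom.commutes, TensorProduct.sum_tmul]
              exact Finset.sum_congr rfl fun j _ => by
                rw [← Algebra.commutes, ← Algebra.smul_def, TensorProduct.smul_tmul']
          _ = algebraMap k _ (c i) := by rw [hq]; rfl
      exact h hx
    · let S : A →ₐ[k] A ⧸ I := q.comp (HopfAlgebra.antipodeAlgHom k A)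
      have h : I ≤ RingHom.ker S := Ideal.span_le.mpr <| by
        rintro _ ⟨i, rfl⟩
        show S _ = 0
        rw [map_sub, AlgHom.commutes, sub_eq_zero]
        let P := M.map q
        let N := M.map S
        have hPN : P * N = 1 := by
          have := congrArg (fun X : Matrix _ _ A => X.map q) (coMat_mul_antipode b)
          simp only [Matrix.map_mul, Matrix.map_one _ (map_zero q) (map_one q)] at this
          exact this
        have hNP : N * P = 1 := mul_eq_one_comm.mp hPN
        let cc : Fin (Module.finrank k W) → A ⧸ I := fun j => algebraMap k _ (c j)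
        have hPc : P.mulVec cc = cc := funext fun j => by
          show ∑ l, q (M j l) * algebraMap k _ (c l) = _
          exact (by simp [a, map_sum] : ∑ l, q (M j l) * algebraMap k _ (c l) = q (a j)).trans (hq j)
        have hNc : N.mulVec cc = cc := by
          conv_lhs => rw [← hPc]
          rw [Matrix.mulVec_mulVec, hNP, Matrix.one_mulVec]
        refine Eq.trans ?_ (congrFun hNc i)
        simp [a, map_sum, N, cc, Matrix.mulVec, dotProduct]
      exact Ideal.Quotient.eq_zero_iff_mem.mp (h hx)
  haveI := hI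
  haveI : Algebra.FiniteType k (A ⧸ I) :=
    Algebra.FiniteType.of_surjective (Ideal.Quotient.mkₐ k I) (Ideal.Quotient.mkₐ_surjective _ _)
  haveI : _root_.IsReduced (A ⧸ I) := HopfGr.isReduced_charZero (k := k)
  haveI : Algebra.FormallySmooth k (A ⧸ I) := by
    haveI : Algebra.FormallySmooth k ((A ⧸ I) ⧸ nilradical (A ⧸ I)) := HopfGr.formallySmooth_reduced (k := k)
    exact Algebra.FormallySmooth.of_equiv
      ((Ideal.quotientEquivAlgOfEq k (nilradical_eq_zero (A ⧸ I))).trans (AlgEquiv.quotientBot k (A ⧸ I)))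
  have hbot : I = ⊥ := Groth.Agent.S7985.result k A hconn I fun D x hx => by
    suffices h : LieHopf.dlin D x = 0 ∧ Bialgebra.counitAlgHom k A x = 0 from h.1
    induction hx using Submodule.span_induction with
    | mem y hy =>
      obtain ⟨i, rfl⟩ := hy
      refine ⟨?_, by rw [map_sub, hεa, AlgHom.commutes, sub_eq_zero]; rfl⟩
      rw [map_sub, LieHopf.dlin_algebraMap, sub_zero]
      have h0 := congrArg (b.coord i) (hw D)
      rw [dact, LinearMap.comp_apply, hco, map_sum, map_sum, map_zero] at h0
      simpa [Finsupp.single_apply] using h0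
    | zero => exact ⟨map_zero _, map_zero _⟩
    | add y z _ _ hy hz => exact ⟨by rw [map_add, hy.1, hz.1, add_zero], by rw [map_add, hy.2, hz.2, add_zero]⟩
    | smul r y _ hy =>
      rw [smul_eq_mul]
      exact ⟨by rw [LieHopf.dlin_mul, hy.1, hy.2]; ring, by rw [map_mul, hy.2, mul_zero]⟩
  have ha : ∀ i, a i = algebraMap k A (c i) := fun i => by
    have h : a i - algebraMap k A (c i) ∈ I := Ideal.subset_span ⟨i, rfl⟩
    rw [hbot] at h
    exact sub_eq_zero.mp h
  rw [hco]
  conv_rhs => rw [← b.sum_repr w, TensorProduct.sum_tmul]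
  refine Finset.sum_congr rfl fun l _ => ?_
  rw [ha, Algebra.algebraMap_eq_smul_one, TensorProduct.tmul_smul, TensorProduct.smul_tmul']

omit W in
/-- A connected group in characteristic zero without closed subtorus is unipotent. -/
theorem isUnipotent_of_noGm (hconn : ∀ e : A, IsIdempotentElem e → e = 0 ∨ e = 1) (hA : NoGm k A) :
    HopfRep.IsUnipotent k A := by
  intro V _ _ _ hfin hnt
  obtain ⟨w, hw0, hw⟩ := exists_lie_fixed (W := V) hA
  have hmem : w ∈ HopfRep.fixedPts k A V := coact_eq_of_lie hconn w hw
  intro h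
  rw [h, Submodule.mem_bot] at hmem
  exact hw0 hmem

end Hopf

variable {k : Type u} [Field k] [IsAlgClosed k]

theorem noGm_of_hasNoSubtorus {A : Type u} [CommRing A] [HopfAlgebra k A]
    {U : Over (Spec (CommRingCat.of k))} [GrpObj U] (e : CoactBr.sp k A ≅ U) [IsMonHom e.hom]
    (hU : Red.HasNoSubtorus k U) : NoGm k A := by
  intro φ₀ hφ₀
  let M := Fin 1 → ℤ
  let g : MonoidAlgebra k (Multiplicative ℤ) →ₐc[k] MonoidAlgebra k (Multiplicative M) :=
    MonoidAlgebra.mapDomainBialgHom k (AddMonoidHom.toMultiplicative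
      ({ toFun := fun n _ => n, map_zero' := rfl, map_add' := fun _ _ => rfl } : ℤ →+ M))
  have hg : Function.Surjective g := fun z => by
    induction z using MonoidAlgebra.induction_linear with
    | zero => exact ⟨0, map_zero g⟩
    | add x y hx hy =>
      obtain ⟨a, rfl⟩ := hx
      obtain ⟨b, rfl⟩ := hy
      exact ⟨a + b, map_add g a b⟩
    | single m c =>
      refine ⟨MonoidAlgebra.single (Multiplicative.ofAdd (m.toAdd 0)) c, ?_⟩
      rw [MonoidAlgebra.mapDomainBialgHom_single]
      congr 1
      refine Multiplicative.toAdd.injective (funext fun i => ?_)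
      show m.toAdd 0 = m.toAdd i
      rw [Subsingleton.elim i 0]
  have hφ : Function.Surjective (g.comp φ₀) := hg.comp hφ₀
  let B := Spec (CommRingCat.of k)
  let f : Red.DS B M ⟶ U :=
    ((TorusField.dsIso k M).hom ≫ TorusField.specHom (g.comp φ₀)).hom.hom ≫ e.hom
  haveI : IsMonHom ((TorusField.dsIso k M).hom ≫ TorusField.specHom (g.comp φ₀)).hom.hom :=
    ((TorusField.dsIso k M).hom ≫ TorusField.specHom (g.comp φ₀)).hom.isMonHom_hom
  haveI : IsMonHom f := inferInstanceAs (IsMonHom (_ ≫ e.hom))
  haveI : Mono f := by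
    haveI : Mono (TorusField.specHom (g.comp φ₀)).hom.hom := by
      have : IsClosedImmersion (Spec.map (CommRingCat.ofHom
          (g.comp φ₀ : A →ₐ[k] MonoidAlgebra k (Multiplicative M)).toRingHom)) :=
        IsClosedImmersion.spec_of_surjective _ hφ
      refine (Over.forget _).mono_of_mono_map ?_
      exact (inferInstance : Mono (Spec.map (CommRingCat.ofHom
        (g.comp φ₀ : A →ₐ[k] MonoidAlgebra k (Multiplicative M)).toRingHom)))
    haveI : IsIso (TorusField.dsIso k M).hom.hom.hom :=
      ((Grp.forget (Over B)).mapIso (TorusField.dsIso k M)).isIso_hom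
    change Mono (((TorusField.dsIso k M).hom.hom.hom ≫ (TorusField.specHom (g.comp φ₀)).hom.hom) ≫ e.hom)
    infer_instance
  have htriv := hU (Red.DS B M) f (MaxTorus.isTorus_of_split (r := 1) ⟨Iso.refl _⟩)
  haveI : IsIso (Red.DS B M).hom := htriv
  let d : Red.DS B M ≅ (Spec (CommRingCat.of (MonoidAlgebra k (Multiplicative M)))).asOver B :=
    (Grp.forget (Over B)).mapIso (TorusField.dsIso k M)
  haveI : IsIso d.inv.left := ((Over.forget B).mapIso d).isIso_inv
  have hiso2 : IsIso (d.inv.left ≫ (Red.DS B M).hom) := inferInstance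
  rw [Over.w] at hiso2
  have hiso3 : IsIso (Spec.map (CommRingCat.ofHom (algebraMap k (MonoidAlgebra k (Multiplicative M))))) := hiso2
  have hbij : Function.Bijective (algebraMap k (MonoidAlgebra k (Multiplicative M))) := by
    haveI : IsIso (CommRingCat.ofHom (algebraMap k (MonoidAlgebra k (Multiplicative M)))) := by
      haveI : IsIso (Scheme.Spec.map (CommRingCat.ofHom (algebraMap k (MonoidAlgebra k (Multiplicative M)))).op) := hiso3
      haveI := isIso_of_reflects_iso (CommRingCat.ofHom (algebraMap k (MonoidAlgebra k (Multiplicative M)))).op Scheme.Spec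
      exact isIso_of_op _
    exact ConcreteCategory.bijective_of_isIso (CommRingCat.ofHom (algebraMap k (MonoidAlgebra k (Multiplicative M))))
  obtain ⟨c, hc⟩ := hbij.2 (MonoidAlgebra.single (Multiplicative.ofAdd (fun _ => (1 : ℤ))) 1)
  have h := congrArg (fun z : MonoidAlgebra k (Multiplicative M) => z.coeff (Multiplicative.ofAdd (fun _ => (1 : ℤ)))) hc
  have hne : Multiplicative.ofAdd (fun _ : Fin 1 => (1 : ℤ)) ≠ (1 : Multiplicative M) := fun e' =>
    one_ne_zero (congrFun (congrArg Multiplicative.toAdd e') 0)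
  simp [MonoidAlgebra.coe_algebraMap] at h
  exact one_ne_zero (h.symm.trans (Finsupp.single_eq_of_ne hne))

/-- A connected affine group in characteristic zero without subtorus is the spectrum of a unipotent Hopf algebra. -/
theorem exists_hopf_unipotent [CharZero k] (G : Over (Spec (CommRingCat.of k))) [GrpObj G] [IsAffine G.left]
    [LocallyOfFiniteType G.hom] [Smooth G.hom] [ConnectedSpace G.left] (hG : Red.HasNoSubtorus k G) :
    ∃ (A : Type u) (_ : CommRing A) (_ : HopfAlgebra k A) (e : CoactBr.sp k A ≅ G),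
      IsMonHom e.hom ∧ Algebra.FiniteType k A ∧ IsDomain A ∧ HopfRep.IsUnipotent k A := by
  obtain ⟨⟨A⟩, ⟨i⟩⟩ := (essImage_hopfSpec (G := (⟨G⟩ : Grp (Over (Spec (CommRingCat.of k)))))).2 ‹IsAffine G.left›
  let e : CoactBr.sp k A ≅ G := (Grp.forget _).mapIso i
  haveI : IsMonHom e.hom := inferInstanceAs (IsMonHom i.hom.hom.hom)
  haveI : IsIso e.hom.left := inferInstance
  haveI : _root_.IsReduced A := by
    haveI : IsReduced G.left := ASp.isReduced_of_smooth G.hom
    haveI : IsReduced (Spec (CommRingCat.of A)) := isReduced_of_isOpenImmersion e.hom.left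
    exact affine_isReduced_iff (CommRingCat.of A) |>.mp inferInstance
  haveI : Algebra.FiniteType k A := by
    have h1 : LocallyOfFiniteType (CoactBr.sp k A).hom := by
      rw [← Over.w e.hom]; infer_instance
    exact RingHom.finiteType_algebraMap.mp
      ((HasRingHomProperty.Spec_iff (P := @LocallyOfFiniteType)).mp h1)
  haveI : PreconnectedSpace (PrimeSpectrum A) := by
    haveI : PreconnectedSpace G.left := inferInstance
    exact (e.inv.left.homeomorph.surjective.connectedSpace e.inv.left.continuous).toPreconnectedSpace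
  have hconn := SpecialGL.eq_zero_or_one_of_connectedSpace (A := A)
  exact ⟨A, _, _, e, inferInstance, inferInstance, Comodule.ConnDomain.isDomain_of_connected k hconn,
    isUnipotent_of_noGm hconn (noGm_of_hasNoSubtorus e hG)⟩

end Groth.Agent.UnipSubtorus
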