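import Groth.Agent.UnipSubtorus.Main
import Groth.Agent.OrbitDim.Basic
import Groth.Agent.GoodQuotLib.Orbit
import Groth.Agent.ProjActLib.Normal
import Groth.Agent.S7987

/-!
# Orbits of unipotent groups in affine invariant opens are closed
-/

set_option autoImplicit false
set_option maxHeartbeats 1000000
set_option linter.style.haveILetI false
set_option backward.isDefEq.respectTransparency false
set_option backward.isDefEq.respectTransparency.types false

universe u

open CategoryTheory CategoryTheory.Limits MonoidalCategory CartesianMonoidalCategory MonObj AlgebraicGeometry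
open TensorProduct WithConv

noncomputable section

namespace Groth.Agent.UnipSubtorus

open Groth.Agent.Comodule

attribute [-instance] CategoryTheory.Hom.commGroup

variable {k : Type u} [Field k] [IsAlgClosed k] {A : Type u} [CommRing A] [HopfAlgebra k A] [Algebra.FiniteType k A]
  [_root_.IsReduced A]

omit [IsAlgClosed k] [_root_.IsReduced A] in
theorem tr_eq_smul (h : A →ₐ[k] k) (a : A) : ConnDomain.tr h a = (toConv h.toLinearMap) • a := by
  rw [smul_def, dact, LinearMap.comp_apply, coact_regular]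
  simp only [ConnDomain.tr, AlgHom.comp_apply, Bialgebra.comulAlgHom_apply]
  induction Coalgebra.comul (R := k) a with
  | zero => simp
  | add p q hp hq => simp only [map_add, hp, hq]
  | tmul p q => simp

/-- A translation stable subspace of a unipotent group containing a nonzero function contains the constant one. -/
theorem one_mem_of_stable (hU : HopfRep.IsUnipotent k A) (M : Submodule k A)
    (hM : ∀ (h : A →ₐ[k] k), ∀ a ∈ M, ConnDomain.tr h a ∈ M) (hne : ∃ a ∈ M, a ≠ 0) : (1 : A) ∈ M := by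
  classical
  have hfil := isUnipotent_iff_fil.mp hU
  obtain ⟨a₀, ha₀, h0⟩ := hne
  have hex : ∃ n, ∃ a ∈ M, a ≠ 0 ∧ a ∈ fil k A A n := by
    obtain ⟨n, hn⟩ := hfil a₀
    exact ⟨n, a₀, ha₀, h0, hn⟩
  obtain ⟨m, hmM, hm0, hmn⟩ := Nat.find_spec hex
  obtain ⟨n, hn⟩ : ∃ n, Nat.find hex = n + 1 := by
    refine Nat.exists_eq_succ_of_ne_zero fun h => hm0 ?_
    rw [h, fil_zero, Submodule.mem_bot] at hmn
    exact hmn
  rw [hn] at hmn
  have hfix : ∀ h : A →ₐ[k] k, ConnDomain.tr h m = m := fun h => by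
    have hx : (toConv h.toLinearMap - 1 : WithConv (A →ₗ[k] k)).ofConv 1 = 0 :=
      van_one_iff.mp (van_algHom_sub_one h)
    have h1 := mem_fil_succ.mp hmn _ hx
    rw [sub_smul, one_smul, ← tr_eq_smul] at h1
    by_contra hne'
    exact Nat.find_min hex (m := n) (by omega)
      ⟨_, M.sub_mem (hM h m hmM) hmM, sub_ne_zero.mpr hne', h1⟩
  have hconst : m = algebraMap k A (Bialgebra.counitAlgHom k A m) := by
    refine sub_eq_zero.mp (ProjActLib.eq_zero_of_points (k := k) fun g => ?_)
    rw [map_sub, AlgHom.commutes, sub_eq_zero]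
    have h1 := congrArg (Bialgebra.counitAlgHom k A) (hfix g)
    rw [tr_eq_smul] at h1
    exact (counit_smul (toConv g.toLinearMap) m).symm.trans h1
  have hε : Bialgebra.counitAlgHom k A m ≠ 0 := fun h => hm0 (by rw [hconst, h, map_zero])
  have h1 : (1 : A) = (Bialgebra.counitAlgHom k A m)⁻¹ • m := by
    rw [show (Bialgebra.counitAlgHom k A m)⁻¹ • m =
      (Bialgebra.counitAlgHom k A m)⁻¹ • algebraMap k A (Bialgebra.counitAlgHom k A m) from congrArg _ hconst]
    rw [Algebra.smul_def, ← map_mul, inv_mul_cancel₀ hε, map_one]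
  rw [h1]
  exact M.smul_mem _ hmM

variable {G X Y : Over (Spec (CommRingCat.of k))} [GrpObj G] [LocallyOfFiniteType G.hom] [QuasiCompact G.hom]
  [LocallyOfFiniteType X.hom] [QuasiCompact X.hom] (e : CoactBr.sp k A ≅ G) [IsMonHom e.hom]

include e in
/-- Orbits of a unipotent group are closed in a scheme with an invariant affine morphism. -/
theorem isClosed_orbit (hU : HopfRep.IsUnipotent k A) (a : AlgGrp.Action G X) (φ : X ⟶ Y)
    (hinv : GIT.IsInvariant a φ) [IsAffineHom φ.left] (x : 𝟙_ (Over (Spec (CommRingCat.of k))) ⟶ X) :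
    IsClosed (Set.range (a.orbitMap x).left.base) := by
  let t : ↥(𝟙_ (Over (Spec (CommRingCat.of k)))).left := IsLocalRing.closedPoint k
  let O := Set.range (a.orbitMap x).left
  let C := closure O \ O
  have hC : IsClosed C := OrbitDim.isClosed_boundary a x
  by_contra hnc
  obtain ⟨c, hc⟩ : C.Nonempty := Set.nonempty_of_not_subset fun h => hnc (isClosed_of_closure_subset h)
  -- an affine invariant neighbourhood of the closure
  obtain ⟨U, hUaff, hxU, -⟩ := exists_isAffineOpen_mem_and_subset (U := (⊤ : Y.left.Opens))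
    (x := (x ≫ φ).left t) trivial
  let W : X.left.Opens := φ.left ⁻¹ᵁ U
  have hW : IsAffineOpen W := hUaff.preimage φ.left
  have hclW : closure O ⊆ W := fun z hz => by
    have := GoodQuotLib.closure_orbit_subset_fibre a φ hinv x t hz
    show φ.left z ∈ U
    rw [show φ.left z = (x ≫ φ).left t from this]
    exact hxU
  -- the orbit morphism, composed with the inverse
  let m : CoactBr.sp k A ⟶ X := e.hom⁻¹ ≫ a.orbitMap x
  have hmO : Set.range m.left = O := by
    refine Set.Subset.antisymm ?_ ?_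
    · rintro _ ⟨g, rfl⟩
      exact ⟨(e.hom⁻¹).left g, by rw [← Scheme.Hom.comp_apply, ← Over.comp_left]⟩
    · rintro _ ⟨g, rfl⟩
      have h1 : (e.inv ≫ e.hom⁻¹) ≫ (e.inv ≫ e.hom⁻¹) = 𝟙 G := by
        rw [GrpObj.comp_inv, Iso.inv_hom_id, GrpObj.comp_inv, Category.comp_id, inv_inv]
      refine ⟨(e.inv ≫ e.hom⁻¹ ≫ e.inv).left g, ?_⟩
      rw [← Scheme.Hom.comp_apply, ← Over.comp_left]
      have h2 : (e.inv ≫ e.hom⁻¹ ≫ e.inv) ≫ m = a.orbitMap x := by
        show (e.inv ≫ e.hom⁻¹ ≫ e.inv) ≫ e.hom⁻¹ ≫ a.orbitMap x = _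
        rw [← Category.assoc (e.inv ≫ _), show (e.inv ≫ e.hom⁻¹ ≫ e.inv) ≫ e.hom⁻¹ = 𝟙 G by
          simpa only [Category.assoc] using h1, Category.id_comp]
      rw [h2]
  have hmW : Set.range m.left ⊆ Set.range hW.fromSpec := by
    rw [hmO, hW.range_fromSpec]; exact subset_closure.trans hclW
  obtain ⟨ψ, hψ⟩ : ∃ ψ : Γ(X.left, W) ⟶ CommRingCat.of A, Spec.map ψ ≫ hW.fromSpec = m.left :=
    ⟨Spec.preimage (IsOpenImmersion.lift hW.fromSpec m.left hmW),
      by rw [Spec.map_preimage, IsOpenImmersion.lift_fac]⟩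
  let C' : Set ↥(Spec Γ(X.left, W)) := hW.fromSpec ⁻¹' C
  let J := PrimeSpectrum.vanishingIdeal C'
  have hC' : IsClosed C' := hC.preimage hW.fromSpec.continuous
  have hrange : ∀ p : ↥(Spec (CommRingCat.of A)), (Spec.map ψ) p ∉ C' := fun p hp => by
    have : hW.fromSpec ((Spec.map ψ) p) ∈ O := by
      rw [← Scheme.Hom.comp_apply, hψ, ← hmO]; exact ⟨p, rfl⟩
    exact hp.2 this
  -- translations preserve the boundary and the open
  have htrC : ∀ g : 𝟙_ (Over (Spec (CommRingCat.of k))) ⟶ G, ∀ z ∈ C, (MonoFibre.translX a g).left z ∈ C := by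
    intro g z hz
    let T := MonoFibre.translXHomeo a g
    have hO : T '' O = O := OrbitDim.image_translX_range a x g
    refine ⟨?_, fun hmem => hz.2 ?_⟩
    · have h1 : T z ∈ T '' closure O := ⟨z, hz.1, rfl⟩
      rw [T.image_closure, hO] at h1
      exact h1
    · have h1 : T z ∈ T '' O := by rw [hO]; exact hmem
      exact T.injective.mem_set_image.mp h1
  have hinvT : ∀ g : 𝟙_ (Over (Spec (CommRingCat.of k))) ⟶ G, MonoFibre.translX a g ≫ φ = φ := fun g => by
    rw [MonoFibre.translX, Category.assoc, hinv, lift_snd_assoc, Category.id_comp]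
  let M : Submodule k A := Submodule.span k (ψ.hom '' (J : Set Γ(X.left, W)))
  have hstab : ∀ (h : A →ₐ[k] k), ∀ f ∈ J, ∃ f' ∈ J, ψ.hom f' = ConnDomain.tr h (ψ.hom f) := by
    intro h f hf
    let j : 𝟙_ (Over (Spec (CommRingCat.of k))) ⟶ CoactBr.sp k k := Over.homMk (𝟙 _) (by
      show 𝟙 _ ≫ Spec.map (CommRingCat.ofHom (algebraMap k k)) = 𝟙 _
      rw [Category.id_comp, Algebra.algebraMap_self, CommRingCat.ofHom_id, Spec.map_id])
    have hj : toUnit (CoactBr.sp k A) ≫ j = CoactBr.pt (Algebra.ofId k A) := Over.OverMorphism.ext (Category.comp_id _)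
    let g₀ := (j ≫ SpecialGL.gpt e (toConv h))⁻¹
    let τ := MonoFibre.translX a g₀
    have hτW : Set.range (hW.fromSpec ≫ τ.left) ⊆ Set.range hW.fromSpec := by
      rintro _ ⟨p, rfl⟩
      rw [hW.range_fromSpec]
      show φ.left ((hW.fromSpec ≫ τ.left) p) ∈ U
      rw [Scheme.Hom.comp_apply, ← Scheme.Hom.comp_apply τ.left, ← Over.comp_left, hinvT]
      exact (hW.range_fromSpec ▸ ⟨p, rfl⟩ : hW.fromSpec p ∈ (W : Set X.left))
    obtain ⟨τR, hτR⟩ : ∃ r : Γ(X.left, W) ⟶ Γ(X.left, W), Spec.map r ≫ hW.fromSpec = hW.fromSpec ≫ τ.left :=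
      ⟨Spec.preimage (IsOpenImmersion.lift hW.fromSpec _ hτW), by rw [Spec.map_preimage, IsOpenImmersion.lift_fac]⟩
    refine ⟨τR.hom f, ?_, ?_⟩
    · rw [PrimeSpectrum.mem_vanishingIdeal] at hf ⊢
      intro p hp
      refine hf ((Spec.map τR) p) ?_
      show hW.fromSpec ((Spec.map τR) p) ∈ C
      rw [← Scheme.Hom.comp_apply, hτR, Scheme.Hom.comp_apply]
      exact htrC g₀ _ hp
    · have hgpt : SpecialGL.gpt e (toConv (ConnDomain.tr h)) =
          e.hom * (toUnit _ ≫ j ≫ SpecialGL.gpt e (toConv h)) := by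
        rw [← Category.assoc, hj, ← SpecialGL.gpt_push, show e.hom = SpecialGL.gpt e (toConv (AlgHom.id k A)) by
          rw [SpecialGL.gpt, ofConv_toConv, CoactBr.pt_id, Category.id_comp], ← SpecialGL.gpt_mul]
        congr 1
        refine WithConv.ofConv_injective (AlgHom.ext fun b => ?_)
        rw [AlgHom.convMul_apply]
        simp only [ConnDomain.tr, AlgHom.comp_apply, Bialgebra.comulAlgHom_apply, ofConv_toConv]
        induction Coalgebra.comul (R := k) b with
        | zero => simp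
        | add p q hp hq => simp only [map_add, hp, hq]
        | tmul p q => simp [SpecialGL.Hopf.push, Algebra.smul_def, mul_comm]
      have hm : m ≫ τ = CoactBr.pt (ConnDomain.tr h) ≫ m := by
        show (e.hom⁻¹ ≫ a.orbitMap x) ≫ τ = _ ≫ e.hom⁻¹ ≫ a.orbitMap x
        rw [Category.assoc, MonoFibre.orbitMap_translX, ← Category.assoc, ← Category.assoc (CoactBr.pt _)]
        congr 1
        have h1 : CoactBr.pt (ConnDomain.tr h) ≫ e.hom = SpecialGL.gpt e (toConv (ConnDomain.tr h)) := rfl
        rw [GrpObj.comp_inv, h1, hgpt, MonoFibre.translG, MonObj.comp_mul, Category.comp_id, mul_inv_rev,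
          ← Category.assoc, comp_toUnit]
        congr 1
      have hψτ : τR ≫ ψ = ψ ≫ CommRingCat.ofHom (ConnDomain.tr h).toRingHom := by
        apply Spec.map_injective
        rw [← cancel_mono hW.fromSpec, Spec.map_comp, Spec.map_comp, Category.assoc, Category.assoc, hτR, hψ,
          reassoc_of% hψ, ← Over.comp_left, hm, Over.comp_left, CoactBr.pt_left]
      exact congrArg (fun r => r.hom f) hψτ
  have hM : ∀ (h : A →ₐ[k] k), ∀ b ∈ M, ConnDomain.tr h b ∈ M := by
    intro h b hb
    induction hb using Submodule.span_induction with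
    | mem y hy =>
      obtain ⟨f, hf, rfl⟩ := hy
      obtain ⟨f', hf', e'⟩ := hstab h f hf
      rw [← e']
      exact Submodule.subset_span ⟨f', hf', rfl⟩
    | zero => rw [map_zero]; exact zero_mem _
    | add y z _ _ hy hz => rw [map_add]; exact add_mem hy hz
    | smul r y _ hy => rw [map_smul]; exact M.smul_mem r hy
  have hne : ∃ b ∈ M, b ≠ 0 := by
    obtain ⟨p⟩ : Nonempty ↥(Spec (CommRingCat.of A)) := ⟨(CoactBr.pt (Bialgebra.counitAlgHom k A)).left t⟩
    by_contra hcon
    push Not at hcon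
    refine hrange p ?_
    rw [← hC'.closure_eq, ← PrimeSpectrum.zeroLocus_vanishingIdeal_eq_closure]
    intro f hf
    show ψ.hom f ∈ p.asIdeal
    rw [hcon _ (Submodule.subset_span ⟨f, hf, rfl⟩)]
    exact zero_mem _
  have h1 := one_mem_of_stable hU M hM hne
  -- the constant one comes from the ideal of the boundary
  have hJ : (1 : A) ∈ ψ.hom '' (J : Set Γ(X.left, W)) := by
    have hstr : ∃ σ : k →+* Γ(X.left, W), ψ.hom.comp σ = algebraMap k A := by
      obtain ⟨σ, hσ⟩ : ∃ σ, Spec.map σ = hW.fromSpec ≫ X.hom := ⟨_, Spec.map_preimage _⟩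
      refine ⟨σ.hom, ?_⟩
      have h2 : σ ≫ ψ = CommRingCat.ofHom (algebraMap k A) := by
        apply Spec.map_injective
        rw [Spec.map_comp, hσ, reassoc_of% hψ]
        exact Over.w m
      exact congrArg CommRingCat.Hom.hom h2
    obtain ⟨σ, hσ⟩ := hstr
    have hle : ∀ b ∈ M, b ∈ ψ.hom '' (J : Set Γ(X.left, W)) := by
      intro b hb
      induction hb using Submodule.span_induction with
      | mem y hy => exact hy
      | zero => exact ⟨0, J.zero_mem, map_zero _⟩
      | add y z _ _ hy hz =>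
        obtain ⟨f, hf, rfl⟩ := hy
        obtain ⟨f', hf', rfl⟩ := hz
        exact ⟨f + f', J.add_mem hf hf', map_add _ _ _⟩
      | smul r y _ hy =>
        obtain ⟨f, hf, rfl⟩ := hy
        refine ⟨σ r * f, J.mul_mem_left _ hf, ?_⟩
        rw [map_mul, Algebra.smul_def, ← hσ]
        rfl
    exact hle _ h1
  obtain ⟨f, hf, hf1⟩ := hJ
  obtain ⟨c', hc'⟩ : c ∈ Set.range hW.fromSpec := by rw [hW.range_fromSpec]; exact hclW hc.1
  have hcC' : c' ∈ C' := by show hW.fromSpec c' ∈ C; rw [hc']; exact hc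
  have h2 : c' ∈ closure (Set.range (PrimeSpectrum.comap ψ.hom)) := by
    have hsub : hW.fromSpec ⁻¹' O ⊆ Set.range (PrimeSpectrum.comap ψ.hom) := by
      intro q hq
      have hq' : hW.fromSpec q ∈ Set.range m.left := by rw [hmO]; exact hq
      obtain ⟨p, hp⟩ := hq'
      refine ⟨p, hW.fromSpec.isOpenEmbedding.injective ?_⟩
      rw [← hp, ← hψ]
      rfl
    refine closure_mono hsub (hW.fromSpec.isOpenEmbedding.isOpenMap.preimage_closure_subset_closure_preimage ?_)
    show hW.fromSpec c' ∈ closure O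
    rw [hc']; exact hc.1
  rw [PrimeSpectrum.closure_range_comap, PrimeSpectrum.mem_zeroLocus] at h2
  have h3 : f - 1 ∈ c'.asIdeal := h2 (show ψ.hom (f - 1) = 0 by rw [map_sub, hf1, map_one, sub_self])
  have h4 : f ∈ c'.asIdeal := (PrimeSpectrum.mem_vanishingIdeal C' f).mp hf c' hcC'
  exact c'.isPrime.ne_top ((Ideal.eq_top_iff_one _).mpr (by simpa using c'.asIdeal.sub_mem h4 h3))

end Groth.Agent.UnipSubtorus
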