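import Groth.Agent.SpecialGLLib.CocTrig
import Groth.Agent.LieKolchin.TrigDiag
import Groth.Agent.Comodule.Unipotent
import Groth.Agent.Comodule.Stab
import Groth.Agent.S4128
import Groth.Agent.S3308
import Groth.Prelude.Def_LieHopf
import Mathlib

/-!
# A derivation of a group without characters of closed commutative subgroups is locally nilpotent

The double centralizer of the action of a derivation in a representation is a commutative closed subgroup.
-/

set_option autoImplicit false
set_option maxHeartbeats 1000000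
set_option linter.style.haveILetI false
set_option backward.isDefEq.respectTransparency false

universe u

open TensorProduct WithConv

noncomputable section

namespace Groth.Agent.UnipSubtorus

open Groth.Agent.Comodule

variable {k : Type u} [Field k] {A : Type u} [CommRing A] [HopfAlgebra k A]

/-- No closed split one-dimensional torus. -/
def NoGm (k A : Type u) [Field k] [CommRing A] [HopfAlgebra k A] : Prop :=
  ∀ φ : A →ₐc[k] MonoidAlgebra k (Multiplicative ℤ), ¬ Function.Surjective φ

/-- A character of infinite order of a commutative group gives a closed subtorus. -/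
theorem exists_surjective_gm [IsAlgClosed k] [Algebra.FiniteType k A] [Coalgebra.IsCocomm k A]
    (γ : GroupLike k A) (hγ : ¬ IsOfFinOrder γ) :
    ∃ φ : A →ₐc[k] MonoidAlgebra k (Multiplicative ℤ), Function.Surjective φ := by
  let Γ := GroupLike k A
  haveI := LieKolchin.TrigDiag.isHopfIdeal_charIdeal k A
  have hq : HopfRep.IsUnipotent k (A ⧸ LieKolchin.TrigDiag.charIdeal k A) :=
    LieKolchin.TrigDiag.isUnipotent_quotient (Groth.Agent.S3308.result k A)
  haveI hJ' : (Ideal.map (LieKolchin.TrigDiag.charMap k A : MonoidAlgebra k Γ →+* A)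
      (RingHom.ker (Bialgebra.counitAlgHom k (MonoidAlgebra k Γ)))).IsHopfIdeal k :=
    LieKolchin.TrigDiag.isHopfIdeal_charIdeal k A
  obtain ⟨r, hr⟩ := Groth.Agent.S4128.result k A (MonoidAlgebra k Γ)
    ⟨Γ, inferInstance, ⟨BialgEquiv.refl k _⟩⟩ (LieKolchin.TrigDiag.charMap k A)
    (LieKolchin.TrigDiag.charMap_injective k A) _ rfl hq
  have hr' : ∀ z, r (LieKolchin.TrigDiag.charMap k A z) = z := fun z => DFunLike.congr_fun hr z
  haveI : Group.FG Γ := SpecialGL.Hopf.fg_groupLike
  haveI : Module.Finite ℤ (Additive Γ) := Module.Finite.iff_addGroup_fg.2 inferInstance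
  let T := Submodule.torsion ℤ (Additive Γ)
  haveI : Module.Free ℤ (Additive Γ ⧸ T) := Module.free_of_finite_type_torsion_free'
  let b := Module.Free.chooseBasis ℤ (Additive Γ ⧸ T)
  obtain ⟨i₀, hi₀⟩ : ∃ i, b.repr (T.mkQ (Additive.ofMul γ)) i ≠ 0 := by
    by_contra hcon
    push Not at hcon
    have h0 : T.mkQ (Additive.ofMul γ) = 0 := b.repr.injective (Finsupp.ext fun i => by rw [hcon i]; simp)
    rw [Submodule.mkQ_apply, Submodule.Quotient.mk_eq_zero, Submodule.mem_torsion_iff] at h0
    obtain ⟨n, hn⟩ := h0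
    refine hγ (isOfFinOrder_iff_zpow_eq_one.mpr ⟨(n : ℤ), nonZeroDivisors.coe_ne_zero n, ?_⟩)
    exact Additive.ofMul.injective hn
  let π : Γ →* Multiplicative ℤ := AddMonoidHom.toMultiplicativeRight ((b.coord i₀).comp T.mkQ).toAddMonoidHom
  have hπ : Function.Surjective π := fun m => by
    obtain ⟨x, hx⟩ := T.mkQ_surjective (m.toAdd • b i₀)
    refine ⟨Additive.toMul x, Multiplicative.toAdd.injective ?_⟩
    show b.coord i₀ (T.mkQ x) = m.toAdd
    rw [hx]; simp
  let g : MonoidAlgebra k Γ →ₐc[k] MonoidAlgebra k (Multiplicative ℤ) := MonoidAlgebra.mapDomainBialgHom k π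
  refine ⟨g.comp r, fun z => ?_⟩
  induction z using MonoidAlgebra.induction_linear with
  | zero => exact ⟨0, map_zero _⟩
  | add x y hx hy =>
    obtain ⟨a, rfl⟩ := hx
    obtain ⟨c, rfl⟩ := hy
    exact ⟨a + c, map_add _ a c⟩
  | single m c =>
    obtain ⟨a, rfl⟩ := hπ m
    refine ⟨LieKolchin.TrigDiag.charMap k A (MonoidAlgebra.single a c), ?_⟩
    show g (r _) = _
    rw [hr']
    exact MonoidAlgebra.mapDomainBialgHom_single ..

theorem conv_apply_coMat {V : Type u} [AddCommGroup V] [Module k V] [HopfRep.Comod k A V] {ι : Type*} [Fintype ι]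
    [DecidableEq ι] (b : Module.Basis ι k V) {B : Type u} [CommRing B] [HopfAlgebra k B] (π : A →ₐc[k] B)
    (f : WithConv (B →ₗ[k] k)) :
    ∀ n, ((coMat b : Matrix ι ι A).map fun a => (f ^ n).ofConv (π a)) =
      ((coMat b : Matrix ι ι A).map fun a => f.ofConv (π a)) ^ n
  | 0 => by
    ext i j
    simp only [pow_zero, Matrix.map_apply, LinearMap.convOne_def, ofConv_toConv, LinearMap.comp_apply,
      Algebra.linearMap_apply, Algebra.algebraMap_self, RingHom.id_apply]
    rw [CoalgHomClass.counit_comp_apply π, counit_coMat, Matrix.one_apply]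
  | n + 1 => by
    rw [pow_succ, pow_succ, ← conv_apply_coMat b π f n]
    ext i j
    simp only [Matrix.map_apply, Matrix.mul_apply, LinearMap.convMul_def, ofConv_toConv, LinearMap.comp_apply]
    rw [← CoalgHomClass.map_comp_comul_apply π, comul_coMat, map_sum, map_sum, map_sum]
    refine Finset.sum_congr rfl fun l _ => ?_
    simp

/-- In a unipotent group, a functional killing one is locally nilpotent. -/
theorem pow_apply_eq_zero {f : WithConv (A →ₗ[k] k)} (hf : f.ofConv 1 = 0) :
    ∀ {n : ℕ} {a : A}, a ∈ fil k A A n → (f ^ n) • a = 0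
  | 0, a, ha => by
    rw [fil_zero, Submodule.mem_bot] at ha
    rw [ha, smul_zero]
  | n + 1, a, ha => by rw [pow_succ, mul_smul]; exact pow_apply_eq_zero hf (mem_fil_succ.mp ha f hf)

theorem counit_smul (f : WithConv (A →ₗ[k] k)) (a : A) : Coalgebra.counit (R := k) (f • a) = f.ofConv a := by
  have h : ∀ z : A ⊗[k] A, Coalgebra.counit (R := k) (rcon f.ofConv z) =
      f.ofConv (lcon (Coalgebra.counit (R := k)) z) := by
    intro z
    induction z with
    | zero => simp
    | add p q hp hq => simp only [map_add, hp, hq]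
    | tmul p q => simp [mul_comm]
  rw [smul_def, dact, LinearMap.comp_apply, coact_regular, h, lcon_counit_comul]

/-- A unipotent group has locally nilpotent derivations, as matrices. -/
theorem isNilpotent_map_of_unipotent {V : Type u} [AddCommGroup V] [Module k V] [HopfRep.Comod k A V] {ι : Type*}
    [Fintype ι] [DecidableEq ι] (b : Module.Basis ι k V) {B : Type u} [CommRing B] [HopfAlgebra k B] (π : A →ₐc[k] B)
    (hB : HopfRep.IsUnipotent k B) (f : WithConv (B →ₗ[k] k)) (hf : f.ofConv 1 = 0) :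
    IsNilpotent ((coMat b : Matrix ι ι A).map fun a => f.ofConv (π a)) := by
  choose N hN using fun p : ι × ι => isUnipotent_iff_fil.mp hB (π (coMat b p.1 p.2))
  refine ⟨Finset.univ.sup N, ?_⟩
  rw [← conv_apply_coMat b π f]
  ext i j
  rw [Matrix.map_apply, Matrix.zero_apply, ← counit_smul,
    pow_apply_eq_zero hf (fil_mono (Finset.le_sup (Finset.mem_univ (i, j))) (hN (i, j))), map_zero]

section Double

variable {V : Type u} [AddCommGroup V] [Module k V] [HopfRep.Comod k A V] {ι : Type} [Fintype ι] [DecidableEq ι]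
  (b : Module.Basis ι k V) (ξ : LieHopf.Lie k A)

/-- The matrix of the action of a derivation. -/
def derMat : Matrix ι ι k := (coMat b : Matrix ι ι A).map fun a => LieHopf.dlin ξ a

/-- The equations of the commutation with the centralizer of the action of a derivation. -/
def doubleIdeal : Ideal A :=
  Ideal.span {a | ∃ (E : Matrix ι ι k) (i j : ι), E * derMat b ξ = derMat b ξ * E ∧
    a = ((coMat b : Matrix ι ι A) * E.map (algebraMap k A) - E.map (algebraMap k A) * (coMat b : Matrix ι ι A) : Matrix ι ι A) i j}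

theorem isHopfIdeal_doubleIdeal : (doubleIdeal b ξ).IsHopfIdeal k := by
  set J := doubleIdeal b ξ with hJ
  let q : A →ₐ[k] A ⧸ J := Ideal.Quotient.mkₐ k J
  let M : Matrix ι ι A := coMat b
  let P := M.map q
  let N := (M.map (HopfAlgebra.antipode k)).map q
  have hPN : P * N = 1 := by
    rw [← Matrix.map_mul, coMat_mul_antipode, Matrix.map_one _ (map_zero q) (map_one q)]
  have hNP : N * P = 1 := mul_eq_one_comm.mp hPN
  have hmap : ∀ E : Matrix ι ι k, (E.map (algebraMap k A)).map q = E.map (algebraMap k (A ⧸ J)) := fun E => by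
    ext i j; exact q.commutes (E i j)
  have hcomm : ∀ E : Matrix ι ι k, E * derMat b ξ = derMat b ξ * E →
      P * E.map (algebraMap k (A ⧸ J)) = E.map (algebraMap k (A ⧸ J)) * P := by
    intro E hE
    rw [← hmap, ← Matrix.map_mul, ← Matrix.map_mul]
    ext i j
    simp only [Matrix.map_apply]
    refine sub_eq_zero.mp ?_
    rw [← map_sub]
    exact Ideal.Quotient.eq_zero_iff_mem.mpr (Ideal.subset_span ⟨E, i, j, hE, rfl⟩)
  refine @Ideal.IsHopfIdeal.mk k A _ _ _ J ⟨fun x hx => ?_, fun x hx => ?_⟩ fun x hx => ?_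
  · have h : J ≤ RingHom.ker (Bialgebra.counitAlgHom k A) := Ideal.span_le.mpr <| by
      rintro _ ⟨E, i, j, hE, rfl⟩
      show Coalgebra.counit (R := k) _ = 0
      simp [Matrix.mul_apply, counit_coMat, Bialgebra.counit_mul]
    exact h hx
  · have hmk : (Submodule.restrictScalars k J).mkQ = q.toLinearMap := rfl
    rw [hmk]
    have h : J ≤ RingHom.ker ((Algebra.TensorProduct.map q q).comp (Bialgebra.comulAlgHom k A)) :=
      Ideal.span_le.mpr <| by
      rintro _ ⟨E, i, j, hE, rfl⟩
      let P1 : Matrix ι ι ((A ⧸ J) ⊗[k] (A ⧸ J)) :=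
        P.map (Algebra.TensorProduct.includeLeft : (A ⧸ J) →ₐ[k] (A ⧸ J) ⊗[k] (A ⧸ J))
      let P2 : Matrix ι ι ((A ⧸ J) ⊗[k] (A ⧸ J)) :=
        P.map (Algebra.TensorProduct.includeRight : (A ⧸ J) →ₐ[k] (A ⧸ J) ⊗[k] (A ⧸ J))
      let Φ : A →ₐ[k] (A ⧸ J) ⊗[k] (A ⧸ J) := (Algebra.TensorProduct.map q q).comp (Bialgebra.comulAlgHom k A)
      have hΦ : M.map Φ = P1 * P2 := by
        ext i j
        show Algebra.TensorProduct.map q q (Coalgebra.comul (R := k) (coMat b i j)) = _
        rw [comul_coMat, map_sum, Matrix.mul_apply]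
        refine Finset.sum_congr rfl fun l _ => ?_
        simp [P1, P2, P, M, q]
      have hg : ∀ g : (A ⧸ J) →ₐ[k] (A ⧸ J) ⊗[k] (A ⧸ J),
          P.map g * E.map (algebraMap k _) = E.map (algebraMap k _) * P.map g := by
        intro g
        have hEg : E.map (algebraMap k ((A ⧸ J) ⊗[k] (A ⧸ J))) = (E.map (algebraMap k (A ⧸ J))).map g := by
          ext i j; exact (g.commutes (E i j)).symm
        rw [hEg, ← Matrix.map_mul, ← Matrix.map_mul, hcomm E hE]
      have hEΦ : (E.map (algebraMap k A)).map Φ = E.map (algebraMap k _) := by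
        ext i j; exact Φ.commutes (E i j)
      show Φ ((M * E.map (algebraMap k A) - E.map (algebraMap k A) * M) i j) = 0
      have e : (M * E.map (algebraMap k A) - E.map (algebraMap k A) * M).map Φ = 0 := by
        rw [Matrix.map_sub Φ (map_sub Φ), Matrix.map_mul, Matrix.map_mul, hΦ, hEΦ, Matrix.mul_assoc, hg,
          ← Matrix.mul_assoc, hg, Matrix.mul_assoc, sub_self]
      exact congrFun (congrFun e i) j
    exact h hx
  · let S : A →ₐ[k] A ⧸ J := q.comp (HopfAlgebra.antipodeAlgHom k A)
    have h : J ≤ RingHom.ker S := Ideal.span_le.mpr <| by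
      rintro _ ⟨E, i, j, hE, rfl⟩
      have hS : M.map S = N := rfl
      have hES : (E.map (algebraMap k A)).map S = E.map (algebraMap k (A ⧸ J)) := by
        ext i j; exact S.commutes (E i j)
      show S ((M * E.map (algebraMap k A) - E.map (algebraMap k A) * M) i j) = 0
      have e : (M * E.map (algebraMap k A) - E.map (algebraMap k A) * M).map S = 0 := by
        rw [Matrix.map_sub S (map_sub S), Matrix.map_mul, Matrix.map_mul, hS, hES, sub_eq_zero]
        calc N * E.map (algebraMap k (A ⧸ J))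
            = N * E.map (algebraMap k (A ⧸ J)) * (P * N) := by rw [hPN, Matrix.mul_one]
          _ = N * (E.map (algebraMap k (A ⧸ J)) * P) * N := by simp only [Matrix.mul_assoc]
          _ = N * (P * E.map (algebraMap k (A ⧸ J))) * N := by rw [hcomm E hE]
          _ = (N * P) * E.map (algebraMap k (A ⧸ J)) * N := by simp only [Matrix.mul_assoc]
          _ = E.map (algebraMap k (A ⧸ J)) * N := by rw [hNP, Matrix.one_mul]
      exact congrFun (congrFun e i) j
    exact Ideal.Quotient.eq_zero_iff_mem.mp (h hx)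

theorem dlin_eq_zero_of_mem {a : A} (ha : a ∈ doubleIdeal b ξ) : LieHopf.dlin ξ a = 0 := by
  suffices h : LieHopf.dlin ξ a = 0 ∧ Bialgebra.counitAlgHom k A a = 0 from h.1
  induction ha using Submodule.span_induction with
  | mem x hx =>
    obtain ⟨E, i, j, hE, rfl⟩ := hx
    refine ⟨?_, ?_⟩
    · have e : (derMat b ξ * E - E * derMat b ξ) i j = 0 := by rw [hE, sub_self]; rfl
      refine Eq.trans ?_ e
      simp [Matrix.mul_apply, derMat, LieHopf.dlin_mul, LieHopf.dlin_algebraMap, counit_coMat, mul_comm]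
    · show Coalgebra.counit (R := k) _ = 0
      simp [Matrix.mul_apply, counit_coMat, Bialgebra.counit_mul]
  | zero => exact ⟨map_zero _, map_zero _⟩
  | add x y _ _ hx hy => exact ⟨by rw [map_add, hx.1, hy.1, add_zero], by rw [map_add, hx.2, hy.2, add_zero]⟩
  | smul r x _ hx =>
    rw [smul_eq_mul]
    exact ⟨by rw [LieHopf.dlin_mul, hx.1, hx.2]; ring, by rw [map_mul, hx.2, mul_zero]⟩

theorem isCocomm_double [(doubleIdeal b ξ).IsHopfIdeal k]
    (hgen : Algebra.adjoin k (Set.range fun p : ι × ι => (coMat b p.1 p.2 : A)) = ⊤) :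
    Coalgebra.IsCocomm k (A ⧸ doubleIdeal b ξ) := by
  let H := A ⧸ doubleIdeal b ξ
  let π : A →ₐc[k] H := Bialgebra.Quotient.mkBialgHom (R := k) (doubleIdeal b ξ)
  let P : Matrix ι ι H := (coMat b : Matrix ι ι A).map π
  have hP : ∀ E : Matrix ι ι k, E * derMat b ξ = derMat b ξ * E →
      P * E.map (algebraMap k H) = E.map (algebraMap k H) * P := by
    intro E hE
    have e : (E.map (algebraMap k A)).map π = E.map (algebraMap k H) := by
      ext i j; exact (π : A →ₐ[k] H).commutes (E i j)
    rw [← e, ← Matrix.map_mul, ← Matrix.map_mul]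
    ext i j
    simp only [Matrix.map_apply]
    refine sub_eq_zero.mp ?_
    rw [← map_sub]
    exact Ideal.Quotient.eq_zero_iff_mem.mpr (Ideal.subset_span ⟨E, i, j, hE, rfl⟩)
  have hD : P * (derMat b ξ).map (algebraMap k H) = (derMat b ξ).map (algebraMap k H) * P := hP _ rfl
  have hE : ∀ f : H →ₗ[k] k, P.map f * derMat b ξ = derMat b ξ * P.map f := fun f => by
    ext i j
    have h := congrArg f (congrFun (congrFun hD i) j)
    simpa [Matrix.mul_apply, map_sum, Algebra.algebraMap_eq_smul_one, mul_comm] using h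
  have key : ∀ i j : ι, ∑ l, P l j ⊗ₜ[k] P i l = ∑ l, P i l ⊗ₜ[k] P l j := fun i j => by
    refine ext_rcon fun f => ?_
    have h := congrFun (congrFun (hP (P.map f) (hE f)) i) j
    simp only [map_sum, rcon_tmul]
    refine Eq.trans ?_ (Eq.trans h.symm ?_) <;>
      simp [Matrix.mul_apply, Algebra.smul_def, mul_comm]
  refine ⟨LinearMap.ext fun z => ?_⟩
  obtain ⟨a, rfl⟩ := Ideal.Quotient.mk_surjective z
  show TensorProduct.comm k H H (Coalgebra.comul (R := k) (π a)) = Coalgebra.comul (R := k) (π a)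
  let F : A →ₐ[k] H ⊗[k] H := (Bialgebra.comulAlgHom k H).comp (π : A →ₐ[k] H)
  suffices h : ((Algebra.TensorProduct.comm k H H : H ⊗[k] H ≃ₐ[k] H ⊗[k] H) : H ⊗[k] H →ₐ[k] H ⊗[k] H).comp F = F from
    DFunLike.congr_fun h a
  refine AlgHom.ext_of_adjoin_eq_top hgen ?_
  rintro _ ⟨⟨i, j⟩, rfl⟩
  show Algebra.TensorProduct.comm k H H (Coalgebra.comul (R := k) (π (coMat b i j))) =
    Coalgebra.comul (R := k) (π (coMat b i j))
  rw [← CoalgHomClass.map_comp_comul_apply π, comul_coMat, map_sum, map_sum]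
  simp only [TensorProduct.map_tmul, LinearMap.coe_coe, Algebra.TensorProduct.comm_tmul]
  exact key i j

/-- The action of a derivation in a representation generating the coordinate ring is nilpotent. -/
theorem isNilpotent_derMat [CharZero k] [IsAlgClosed k] [Algebra.FiniteType k A] (hA : NoGm k A)
    (hgen : Algebra.adjoin k (Set.range fun p : ι × ι => (coMat b p.1 p.2 : A)) = ⊤) :
    IsNilpotent (derMat b ξ) := by
  haveI := isHopfIdeal_doubleIdeal b ξ
  haveI := isCocomm_double b ξ hgen
  let H := A ⧸ doubleIdeal b ξ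
  let π : A →ₐc[k] H := Bialgebra.Quotient.mkBialgHom (R := k) (doubleIdeal b ξ)
  have hπ : Function.Surjective π := Ideal.Quotient.mk_surjective
  haveI : Algebra.FiniteType k H := Algebra.FiniteType.of_surjective (π : A →ₐ[k] H) hπ
  have hfin : ∀ γ : GroupLike k H, IsOfFinOrder γ := fun γ => by
    by_contra hγ
    obtain ⟨φ, hφ⟩ := exists_surjective_gm γ hγ
    exact hA (φ.comp π) (hφ.comp hπ)
  -- the derivation kills the characters
  have hchar : ∀ a : A, π a ∈ LieKolchin.TrigDiag.charIdeal k H → LieHopf.dlin ξ a = 0 := by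
    suffices h : LieKolchin.TrigDiag.charIdeal k H ≤
        Ideal.map (π : A →+* H) (Ideal.span {a : A | LieHopf.dlin ξ a = 0 ∧ Bialgebra.counitAlgHom k A a = 0}) by
      intro a ha
      obtain ⟨a', ha', e⟩ := (Ideal.mem_map_iff_of_surjective (π : A →+* H) hπ).mp (h ha)
      have hsub : a - a' ∈ doubleIdeal b ξ := Ideal.Quotient.eq.mp e.symm
      have h1 := dlin_eq_zero_of_mem b ξ hsub
      rw [map_sub, sub_eq_zero] at h1
      rw [h1]
      suffices h2 : LieHopf.dlin ξ a' = 0 ∧ Bialgebra.counitAlgHom k A a' = 0 from h2.1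
      clear e hsub h1
      induction ha' using Submodule.span_induction with
      | mem x hx => exact hx
      | zero => exact ⟨map_zero _, map_zero _⟩
      | add x y _ _ hx hy => exact ⟨by rw [map_add, hx.1, hy.1, add_zero], by rw [map_add, hx.2, hy.2, add_zero]⟩
      | smul r x _ hx =>
        rw [smul_eq_mul]
        exact ⟨by rw [LieHopf.dlin_mul, hx.1, hx.2]; ring, by rw [map_mul, hx.2, mul_zero]⟩
    refine (LieKolchin.TrigDiag.charIdeal_le_span k H).trans (Ideal.span_le.mpr ?_)
    rintro _ ⟨γ, rfl⟩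
    obtain ⟨g, hg⟩ := hπ (γ : H)
    obtain ⟨m, hm, hgm⟩ := isOfFinOrder_iff_pow_eq_one.mp (hfin γ)
    have hεg : Bialgebra.counitAlgHom k A g = 1 := by
      have h1 := γ.isGroupLikeElem_val.counit_eq_one
      rwa [← hg, CoalgHomClass.counit_comp_apply π] at h1
    have hpow : g ^ m - 1 ∈ doubleIdeal b ξ := by
      refine Ideal.Quotient.eq.mp ?_
      show π (g ^ m) = π 1
      rw [map_pow, hg, map_one, ← GroupLike.val_pow, hgm, GroupLike.val_one]
    have hξpow : ∀ n : ℕ, LieHopf.dlin ξ (g ^ n) = n * LieHopf.dlin ξ g := fun n => by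
      induction n with
      | zero => rw [pow_zero, LieHopf.dlin_one, Nat.cast_zero, zero_mul]
      | succ n ih => rw [pow_succ, LieHopf.dlin_mul, ih, map_pow, hεg, one_pow, Nat.cast_succ]; ring
    have hξg : LieHopf.dlin ξ g = 0 := by
      have h1 := dlin_eq_zero_of_mem b ξ hpow
      rw [map_sub, hξpow, LieHopf.dlin_one, sub_zero] at h1
      exact (mul_eq_zero.mp h1).resolve_left (Nat.cast_ne_zero.mpr hm.ne')
    have hmem := Ideal.mem_map_of_mem (π : A →+* H)
      (Ideal.subset_span (s := {a : A | LieHopf.dlin ξ a = 0 ∧ Bialgebra.counitAlgHom k A a = 0})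
        (show g - 1 ∈ _ from ⟨by rw [map_sub, hξg, LieHopf.dlin_one, sub_zero], by rw [map_sub, hεg, map_one, sub_self]⟩))
    show (γ : H) - 1 ∈ _
    rw [← hg, ← map_one π, ← map_sub]
    exact hmem
  haveI := LieKolchin.TrigDiag.isHopfIdeal_charIdeal k H
  let U := H ⧸ LieKolchin.TrigDiag.charIdeal k H
  have hU : HopfRep.IsUnipotent k U := LieKolchin.TrigDiag.isUnipotent_quotient (Groth.Agent.S3308.result k H)
  let ρ : A →ₐc[k] U := (Bialgebra.Quotient.mkBialgHom (R := k) (LieKolchin.TrigDiag.charIdeal k H)).comp π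
  have hρ : Function.Surjective ρ := Ideal.Quotient.mk_surjective.comp hπ
  have hker : LinearMap.ker (ρ : A →ₗ[k] U) ≤ LinearMap.ker (LieHopf.dlin ξ) := fun a ha =>
    hchar a (Ideal.Quotient.eq_zero_iff_mem.mp ha)
  let f : U →ₗ[k] k := (LinearMap.ker (ρ : A →ₗ[k] U)).liftQ (LieHopf.dlin ξ) hker ∘ₗ
    (LinearMap.quotKerEquivOfSurjective (ρ : A →ₗ[k] U) hρ).symm.toLinearMap
  have hf : ∀ a, f (ρ a) = LieHopf.dlin ξ a := fun a => by
    show (LinearMap.ker (ρ : A →ₗ[k] U)).liftQ (LieHopf.dlin ξ) hker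
      ((LinearMap.quotKerEquivOfSurjective (ρ : A →ₗ[k] U) hρ).symm ((ρ : A →ₗ[k] U) a)) = _
    rw [← LinearMap.quotKerEquivOfSurjective_apply_mk (ρ : A →ₗ[k] U) hρ a, LinearEquiv.symm_apply_apply]
    rfl
  have hf1 : f 1 = 0 := by rw [← map_one ρ, hf, LieHopf.dlin_one]
  have h := isNilpotent_map_of_unipotent b ρ hU (toConv f) hf1
  simp only [ofConv_toConv, hf] at h
  exact h

end Double

/-- Without closed subtorus, derivations are locally nilpotent. -/
theorem exists_pow_smul_eq_zero [CharZero k] [IsAlgClosed k] [Algebra.FiniteType k A] (hA : NoGm k A)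
    (ξ : LieHopf.Lie k A) (a : A) : ∃ n : ℕ, (toConv (LieHopf.dlin ξ)) ^ n • a = 0 := by
  classical
  obtain ⟨s, hs⟩ := (inferInstance : Algebra.FiniteType k A).out
  let S : Set A := (insert a s : Finset A)
  let N : Submodule (WithConv (A →ₗ[k] k)) A := Submodule.span _ S
  haveI : Module.Finite k (N.restrictScalars k) := finite_span_of_finite (Finset.finite_toSet _)
  have hN := isSubcomod_restrictScalars (k := k) (C := A) N
  letI := subComod (N.restrictScalars k) hN
  let V := N.restrictScalars k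
  let b := Module.finBasis k V
  let M : Matrix (Fin (Module.finrank k V)) (Fin (Module.finrank k V)) A := coMat b
  have hV : ∀ v : V, (v : A) = ∑ i, ∑ j, b.repr v j • Coalgebra.counit (R := k) (b i : A) • M i j := by
    intro v
    let ε : V →ₗ[k] k := Coalgebra.counit (R := k) ∘ₗ V.subtype
    have h1 : coefMap (C := A) ε v = (v : A) := by
      show lcon (Coalgebra.counit (R := k) ∘ₗ V.subtype) _ = _
      rw [← lcon_rTensor]
      exact (congrArg _ (rTensor_subCoact V hN v)).trans (lcon_counit_comul _)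
    have hε : ε = ∑ i, ε (b i) • b.coord i := (b.sum_dual_apply_smul_coord ε).symm
    rw [← h1]
    conv_lhs => rw [← b.sum_repr v, map_sum]
    rw [Finset.sum_comm]
    refine Finset.sum_congr rfl fun j _ => ?_
    rw [← LinearMap.coe_restrictScalars k, map_smul, ← Finset.smul_sum, LinearMap.coe_restrictScalars]
    congr 1
    rw [coefMap_apply]
    conv_lhs => rw [hε]
    rw [coact_basis, map_sum]
    refine Finset.sum_congr rfl fun i _ => ?_
    simp [M]
    rfl
  have hgen : Algebra.adjoin k (Set.range fun p : Fin (Module.finrank k V) × Fin (Module.finrank k V) => M p.1 p.2) = ⊤ := by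
    rw [eq_top_iff, ← hs, Algebra.adjoin_le_iff]
    intro x hx
    have hxV : x ∈ V := Submodule.subset_span (Finset.mem_insert_of_mem hx)
    show (((⟨x, hxV⟩ : V) : A)) ∈ _
    rw [hV]
    exact sum_mem fun i _ => sum_mem fun j _ => Subalgebra.smul_mem _ (Subalgebra.smul_mem _
      (Algebra.subset_adjoin (Set.mem_range_self (f := fun p : Fin (Module.finrank k V) × Fin (Module.finrank k V) => M p.1 p.2) (i, j))) _) _
  obtain ⟨n, hn⟩ := isNilpotent_derMat b ξ hA hgen
  refine ⟨n, ?_⟩
  have h0 : ∀ i j, ((toConv (LieHopf.dlin ξ)) ^ n).ofConv (M i j) = 0 := fun i j => by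
    have h := congrFun (congrFun (conv_apply_coMat b (BialgHom.id k A) (toConv (LieHopf.dlin ξ)) n) i) j
    refine Eq.trans h ?_
    show (derMat b ξ ^ n) i j = 0
    rw [hn]; rfl
  have hb : ∀ j, dact ((toConv (LieHopf.dlin ξ)) ^ n).ofConv (b j) = (0 : V) := fun j => by
    rw [dact, LinearMap.comp_apply, coact_basis, map_sum]
    exact Finset.sum_eq_zero fun l _ => by rw [rcon_tmul, h0, zero_smul]
  let v : V := ⟨a, Submodule.subset_span (Finset.mem_insert_self a s)⟩
  have hv : dact ((toConv (LieHopf.dlin ξ)) ^ n).ofConv v = (0 : V) := by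
    rw [← b.sum_repr v, map_sum]
    exact Finset.sum_eq_zero fun j _ => by rw [map_smul, hb, smul_zero]
  have h := isComodHom_iff.mp (isComodHom_subtype V hN) ((toConv (LieHopf.dlin ξ)) ^ n) v
  rw [smul_def, hv, map_zero] at h
  exact h.symm

end Groth.Agent.UnipSubtorus
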